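import Groth.Agent.PicLim95.Basic
import Groth.Agent.SymPhi99.Triv
import Groth.Agent.CAlg8.SeesawH1Near
import Groth.Agent.Crv77.BaseChange
import Groth.Agent.S16760
import Groth.Agent.ASB64.GalStage
import Groth.Agent.ASB64.BaseFree
import Groth.Agent.Props58.PullTensor

/-! The locus where an invertible module on a constant family is trivial near the fibre. -/

set_option autoImplicit false
set_option maxSynthPendingDepth 6
set_option backward.isDefEq.respectTransparency false
set_option backward.isDefEq.respectTransparency.types false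
set_option backward.defeqAttrib.useBackward true
universe u

open CategoryTheory CategoryTheory.Limits AlgebraicGeometry TopologicalSpace Opposite
open Lim8 Groth.Agent.LimTop61

noncomputable section

namespace Groth.Agent.PicProd25

open Var76.LineBundle

variable {k : Type u} [Field k] {T : Scheme.{u}} (t : T ⟶ Spec (CommRingCat.of k))
  {Y Z : Scheme.{u}} (a : Y ⟶ Spec (CommRingCat.of k))

/-- Triviality near the fibre over a point. -/
def Good (N : (pullback t a).Modules) (y : Y) : Prop :=
  ∃ U : Y.Opens, y ∈ U ∧ ∃ e : Γ(N, pullback.snd t a ⁻¹ᵁ U), IsFrame N (pullback.snd t a ⁻¹ᵁ U) e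

theorem isOpen_good (N : (pullback t a).Modules) : IsOpen {y | Good t a N y} :=
  isOpen_iff_forall_mem_open.2 fun _ ⟨U, hy, h⟩ => ⟨U, fun _ hz => ⟨U, hz, h⟩, U.2, hy⟩

/-- The map of constant families over a map of bases. -/
def mapB (φ : Z ⟶ Y) : pullback t (φ ≫ a) ⟶ pullback t a :=
  pullback.lift (pullback.fst _ _) (pullback.snd _ _ ≫ φ) (by rw [pullback.condition, Category.assoc])

theorem mapB_snd (φ : Z ⟶ Y) : mapB t a φ ≫ pullback.snd t a = pullback.snd t (φ ≫ a) ≫ φ :=
  pullback.lift_snd _ _ _

theorem isPullback_mapB (φ : Z ⟶ Y) :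
    IsPullback (mapB t a φ) (pullback.snd t (φ ≫ a)) (pullback.snd t a) φ := by
  refine IsPullback.of_right ?_ (mapB_snd t a φ) (IsPullback.of_hasPullback t a)
  rw [show mapB t a φ ≫ pullback.fst t a = pullback.fst t (φ ≫ a) from pullback.lift_fst _ _ _]
  exact IsPullback.of_hasPullback t (φ ≫ a)

theorem good_iso {N N' : (pullback t a).Modules} (i : N ≅ N') {y : Y} (h : Good t a N y) : Good t a N' y := by
  obtain ⟨U, hy, e, he⟩ := h
  exact ⟨U, hy, _, (Amp73.isFrame_app_iff i.hom _).2 he⟩

theorem good_pull (φ : Z ⟶ Y) (N : (pullback t a).Modules) (hN : PicF.IsInvertible N) {z : Z}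
    (h : Good t a N (φ z)) : Good t (φ ≫ a) ((Scheme.Modules.pullback (mapB t a φ)).obj N) z := by
  obtain ⟨U, hy, e, he⟩ := h
  have hpre : mapB t a φ ⁻¹ᵁ (pullback.snd t a ⁻¹ᵁ U) = pullback.snd t (φ ≫ a) ⁻¹ᵁ (φ ⁻¹ᵁ U) := by
    rw [← Scheme.Hom.comp_preimage, ← Scheme.Hom.comp_preimage, mapB_snd]
  exact ⟨φ ⁻¹ᵁ U, hy, _, (Amp73.isFrame_pullS (mapB t a φ) hN he).res hpre.ge⟩

theorem good_of_openImmersion (j : Z ⟶ Y) [IsOpenImmersion j] (N : (pullback t a).Modules) {z : Z}
    (h : Good t (j ≫ a) ((Scheme.Modules.pullback (mapB t a j)).obj N) z) : Good t a N (j z) := by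
  obtain ⟨U, hz, e, he⟩ := h
  let g := mapB t a j
  have hg := isPullback_mapB t a j
  haveI : IsOpenImmersion g := MorphismProperty.of_isPullback (P := @IsOpenImmersion) hg.flip ‹_›
  let χ := (Scheme.Modules.restrictFunctorIsoPullback g).app N
  have h2 := (Props58.PullTensor.isFrame_restrict_iff g N _ _).1 ((Amp73.isFrame_app_iff χ.inv _).2 he)
  have himg := IsOpenImmersion.image_preimage_eq_preimage_image_of_isPullback hg.flip U
  exact ⟨j ''ᵁ U, ⟨z, hz, rfl⟩, _, h2.res himg.ge⟩

/-- Near triviality gives triviality after any base change to a point of the open. -/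
theorem trivial_bc_of_good (N : (pullback t a).Modules) (hN : PicF.IsInvertible N) {K : Type u} [Field K]
    (v : Spec (CommRingCat.of K) ⟶ Y) (h : Good t a N (v (IsLocalRing.closedPoint K))) :
    Nonempty ((Scheme.Modules.pullback (pullback.fst (pullback.snd t a) v)).obj N ≅
      Coh.structureModule (pullback (pullback.snd t a) v)) := by
  obtain ⟨U, hy, e, he⟩ := h
  have hO : (⊤ : (pullback (pullback.snd t a) v).Opens) ≤
      pullback.fst (pullback.snd t a) v ⁻¹ᵁ (pullback.snd t a ⁻¹ᵁ U) := by
    rw [← Scheme.Hom.comp_preimage, pullback.condition, Scheme.Hom.comp_preimage]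
    intro x _
    show v (pullback.snd (pullback.snd t a) v x) ∈ U
    rw [Subsingleton.elim (α := Spec (CommRingCat.of K)) (pullback.snd (pullback.snd t a) v x) (IsLocalRing.closedPoint K)]
    exact hy
  exact ParaF26.nonempty_iso_unit ((Amp73.isFrame_pullS _ hN he).res hO)

variable [IsProper t] [GeometricallyIntegral t]
  (h1 : Subsingleton (Coh.HH T (Coh.structureModule T) 1))

include h1 in
/-- The fibres of a constant family have no first cohomology. -/
theorem subsingleton_h1_fibre (y : Y) :
    Subsingleton (Coh.HH ((pullback.snd t a).fiber y) (Coh.structureModule ((pullback.snd t a).fiber y)) 1) := by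
  let q := pullback.snd t a
  let κ : Type u := Y.residueField y
  obtain ⟨ψ, hψ⟩ := Spec.map_surjective (Y.fromSpecResidueField y ≫ a)
  letI : Algebra k κ := ψ.hom.toAlgebra
  letI : T.Over (Spec (CommRingCat.of k)) := ⟨t⟩
  haveI : IsProper (T ↘ Spec (CommRingCat.of k)) := ‹IsProper t›
  letI : (q.fiber y).Over (Spec (CommRingCat.of κ)) := ⟨q.fiberToSpecResidueField y⟩
  haveI : IsProper ((q.fiber y) ↘ Spec (CommRingCat.of κ)) :=
    MorphismProperty.pullback_snd (P := @IsProper) _ _ inferInstance
  haveI : IsLocallyNoetherian (q.fiber y) :=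
    LocallyOfFiniteType.isLocallyNoetherian ((q.fiber y) ↘ Spec (CommRingCat.of κ))
  have hpb : IsPullback (q.fiberι y ≫ pullback.fst t a) ((q.fiber y) ↘ Spec (CommRingCat.of κ))
      (T ↘ Spec (CommRingCat.of k)) (Spec.map (CommRingCat.ofHom (algebraMap k κ))) := by
    have h := (IsPullback.of_hasPullback q (Y.fromSpecResidueField y)).paste_horiz (IsPullback.of_hasPullback t a)
    rw [← hψ] at h
    exact h
  have h := Crv77.finrank_hh_structureModule_baseChange k κ _ hpb 1
  haveI := h1
  have hc : Coh.IsCoh (Coh.structureModule (q.fiber y)) :=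
    Crv77.isCoh_of_isInvertible (EGA73.isInvertible_structureModule (X := q.fiber y))
  have f2 : Module.Finite κ (Coh.HH (q.fiber y) (Coh.structureModule (q.fiber y)) 1) :=
    Serre71.finite_hh_of_isProper κ _ hc 1
  rw [← Module.finrank_zero_iff (R := κ), h, Module.finrank_zero_of_subsingleton]

/-- Triviality after base change to a field gives triviality on the fibre. -/
theorem trivial_fibre_of_bc (N : (pullback t a).Modules) (hN : PicF.IsInvertible N) {K : Type u} [Field K]
    (v : Spec (CommRingCat.of K) ⟶ Y)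
    (h : Nonempty ((Scheme.Modules.pullback (pullback.fst (pullback.snd t a) v)).obj N ≅
      Coh.structureModule (pullback (pullback.snd t a) v))) :
    Nonempty ((Scheme.Modules.pullback ((pullback.snd t a).fiberι (v (IsLocalRing.closedPoint K)))).obj N ≅
      Coh.structureModule ((pullback.snd t a).fiber (v (IsLocalRing.closedPoint K)))) :=
  SymPhi99.trivial_fiber_of_bc (pullback.snd t a) N hN v h _

include h1 in
theorem good_of_bc_noetherian [IsLocallyNoetherian Y] (N : (pullback t a).Modules) (hN : PicF.IsInvertible N)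
    {K : Type u} [Field K] (v : Spec (CommRingCat.of K) ⟶ Y)
    (h : Nonempty ((Scheme.Modules.pullback (pullback.fst (pullback.snd t a) v)).obj N ≅
      Coh.structureModule (pullback (pullback.snd t a) v))) :
    Good t a N (v (IsLocalRing.closedPoint K)) := by
  haveI : Flat t := ASB64.flat_of_field t
  exact CAlg8.SeesawH1.exists_nhd_frame_at (pullback.snd t a) N hN _ (subsingleton_h1_fibre t a h1 _)
    (trivial_fibre_of_bc t a N hN v h)

include h1 in
theorem isClosed_good_noetherian [IsLocallyNoetherian Y] (N : (pullback t a).Modules) (hN : PicF.IsInvertible N) :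
    IsClosed {y | Good t a N y} := by
  haveI : Flat t := ASB64.flat_of_field t
  let q := pullback.snd t a
  have heq : {y | Good t a N y} =
      {y : Y | Nonempty (CohIII.fiberMod q N y ≅ Coh.structureModule (q.fiber y))} := by
    ext y
    refine ⟨fun hy => ?_, fun hy => CAlg8.SeesawH1.exists_nhd_frame_at q N hN y (subsingleton_h1_fibre t a h1 y) hy⟩
    obtain ⟨U, hyU, e, he⟩ := hy
    refine ParaF26.nonempty_iso_unit ((Amp73.isFrame_pullS (q.fiberι y) hN he).res ?_)
    intro x _
    show q (q.fiberι y x) ∈ U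
    have hx : q.fiberι y x ∈ q ⁻¹' {y} := (q.range_fiberι y).le ⟨x, rfl⟩
    rw [show q (q.fiberι y x) = y from hx]
    exact hyU
  rw [heq]
  haveI : GeometricallyIntegral q := MorphismProperty.pullback_snd (P := @GeometricallyIntegral) _ _ inferInstance
  exact Groth.Agent.S16760.result q
    (fun K _ x => GeometricallyIntegral.geometrically_isIntegral (f := q) x _ _ (IsPullback.of_hasPullback q x)) N hN

end Groth.Agent.PicProd25
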