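import Groth.Agent.PicProd25.Base
import Groth.Agent.Cube7.Seesaw
import Groth.Agent.Desc59.Pic.VectPush
import Groth.Agent.Var76.FibBC
import Groth.Agent.AbSch7.NoethH0
import Groth.Agent.An92.Ample.Inverse

/-! Invertible modules on a product with a proper variety without first cohomology. -/

set_option autoImplicit false
set_option maxSynthPendingDepth 6
set_option backward.isDefEq.respectTransparency false
set_option backward.isDefEq.respectTransparency.types false
set_option backward.defeqAttrib.useBackward true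
universe u

open CategoryTheory CategoryTheory.Limits AlgebraicGeometry TopologicalSpace Opposite
open Lim8 Groth.Agent.LimTop61

noncomputable section

namespace Groth.Agent.PicProd25

open Var76.LineBundle

variable {k : Type u} [Field k] {T : Scheme.{u}} (t : T ⟶ Spec (CommRingCat.of k)) [IsProper t]

/-- An invertible module over an affine base comes from a Noetherian base. -/
theorem exists_noetherian_stage {B : Type u} [CommRing B] [Nontrivial B]
    (a : Spec (CommRingCat.of B) ⟶ Spec (CommRingCat.of k))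
    (N : (pullback t a).Modules) (hN : PicF.IsInvertible N) :
    ∃ (Y : Scheme.{u}) (_ : IsLocallyNoetherian Y) (φ : Spec (CommRingCat.of B) ⟶ Y)
      (a₀ : Y ⟶ Spec (CommRingCat.of k)) (h : φ ≫ a₀ = a) (N₀ : (pullback t a₀).Modules),
      PicF.IsInvertible N₀ ∧ Nonempty ((Scheme.Modules.pullback
        (pullback.lift (pullback.fst t a) (pullback.snd t a ≫ φ)
          (by rw [pullback.condition, Category.assoc, h]) : pullback t a ⟶ pullback t a₀)).obj N₀ ≅ N) := by
  classical
  obtain ⟨ψ, rfl⟩ := Spec.map_surjective a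
  letI : Algebra k B := ψ.hom.toAlgebra
  let A := CommRingCat.of k
  let BB := CommRingCat.of B
  have : IsDirectedOrder (FgSubalg A BB) := ⟨fun S T => ⟨⟨S.1 ⊔ T.1, S.2.sup T.2⟩, le_sup_left (a := S.1), le_sup_right (a := S.1)⟩⟩
  have : Nonempty (FgSubalg A BB) := ⟨⟨⊥, Subalgebra.fg_bot⟩⟩
  have : IsFiltered (FgSubalg A BB) := isFiltered_of_directed_le_nonempty _
  have : IsCofiltered (FgSubalg A BB)ᵒᵖ := inferInstance
  let D := subalgSpec A BB
  let cS := subalgCone A BB
  let j₀ : (FgSubalg A BB)ᵒᵖ := op ⟨⊥, Subalgebra.fg_bot⟩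
  let g : D.obj j₀ ⟶ Spec A := Spec.map (CommRingCat.ofHom (algebraMap k (⊥ : Subalgebra k B)))
  have : IsIso g := by
    have hb : Function.Bijective (algebraMap k (⊥ : Subalgebra k B)) :=
      ⟨RingHom.injective _, fun z => by
        obtain ⟨r, hr⟩ := Algebra.mem_bot.mp z.2
        exact ⟨r, Subtype.ext hr⟩⟩
    have : IsIso (CommRingCat.ofHom (algebraMap k (⊥ : Subalgebra k B))) :=
      (RingEquiv.ofBijective _ hb).toCommRingCatIso.isIso_hom
    exact inferInstanceAs (IsIso (Spec.map _))
  let b : T ⟶ D.obj j₀ := t ≫ inv g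
  let sE := Spec.map ψ
  let sK (S : Subalgebra k B) := Spec.map (CommRingCat.ofHom (algebraMap k S))
  have hg (j : Over j₀) : D.map j.hom ≫ g = sK j.left.unop.1 := by
    simp only [D, g, sK, subalgSpec, Functor.comp_map, Functor.op_map, Scheme.Spec_map,
      Quiver.Hom.unop_op]
    erw [← Spec.map_comp]
    rfl
  have hgE : cS.π.app j₀ ≫ g = sE := by
    simp only [cS, g, sE, subalgCone, Functor.mapCone_π_app]
    erw [← Spec.map_comp]
    rfl
  have hP : IsPullback (pullback.fst t sE) (pullback.snd t sE) b (cS.π.app j₀) :=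
    (IsPullback.of_hasPullback t sE).of_iso (Iso.refl _) (Iso.refl _) (Iso.refl _) (asIso g).symm
      (by simp) (by simp) (by simp [b]) (by simp [← hgE])
  let c := bcCone D cS b (pullback.fst t sE) (pullback.snd t sE) hP.w
  let hc : IsLimit c := isLimitBcCone D cS (isLimitSubalgCone A BB) b _ _ hP
  haveI : ∀ j, CompactSpace ↥((bcDiagram D b).obj j) := fun j =>
    @QuasiCompact.compactSpace_of_compactSpace _ (D.obj j.left) (pullback.snd b (D.map j.hom)) inferInstance inferInstance
  haveI : ∀ j, QuasiSeparatedSpace ↥((bcDiagram D b).obj j) := fun j =>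
    quasiSeparatedSpace_of_quasiSeparated (pullback.snd b (D.map j.hom))
  obtain ⟨j, Fj, hFj, ⟨i⟩⟩ := PicLim95.exists_invertible_stage (c := c) hc N hN
  let S := j.left.unop.1
  have hiso : IsPullback (pullback.fst b (D.map j.hom)) (pullback.snd b (D.map j.hom)) t (sK S) :=
    (IsPullback.of_hasPullback b (D.map j.hom)).of_iso (Iso.refl _) (Iso.refl _) (Iso.refl _) (asIso g)
      (by simp) (by simp) (by simp [b]) (by simpa using (hg j))
  haveI : Algebra.FiniteType k S := (Subalgebra.fg_iff_finiteType _).mp j.left.unop.2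
  haveI : IsNoetherianRing S := Algebra.FiniteType.isNoetherianRing k S
  have hφ : Spec.map (CommRingCat.ofHom S.val.toRingHom) ≫ sK S = Spec.map ψ := by
    rw [← Spec.map_comp]
    rfl
  let m : pullback t (Spec.map ψ) ⟶ pullback t (sK S) :=
    pullback.lift (pullback.fst t (Spec.map ψ))
      (pullback.snd t (Spec.map ψ) ≫ Spec.map (CommRingCat.ofHom S.val.toRingHom))
      (by rw [pullback.condition, Category.assoc, hφ])
  have e : c.π.app j ≫ hiso.isoPullback.hom = m := by
    refine pullback.hom_ext ?_ ?_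
    · rw [Category.assoc, hiso.isoPullback_hom_fst]
      exact (pullback.lift_fst _ _ _).trans (pullback.lift_fst _ _ _).symm
    · rw [Category.assoc, hiso.isoPullback_hom_snd]
      refine (pullback.lift_snd _ _ _).trans ?_
      rw [pullback.lift_snd]
      rfl
  exact ⟨Spec (CommRingCat.of S), inferInstance, Spec.map (CommRingCat.ofHom S.val.toRingHom), sK S, hφ,
    (Scheme.Modules.pullback hiso.isoPullback.inv).obj Fj, Amp73.isInvertible_pullback _ hFj,
    ⟨(LimTop61.pullbackCompIso hiso.isoPullback.inv m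
      (by rw [← e, Category.assoc, Iso.hom_inv_id, Category.comp_id])).app Fj ≪≫ i⟩⟩

variable [GeometricallyIntegral t] (h1 : Subsingleton (Coh.HH T (Coh.structureModule T) 1))

include h1 in
/-- Over an affine base the good locus is closed and contains every field-valued point with trivial pullback. -/
theorem good_affine {B : Type u} [CommRing B] [Nontrivial B]
    (a : Spec (CommRingCat.of B) ⟶ Spec (CommRingCat.of k))
    (N : (pullback t a).Modules) (hN : PicF.IsInvertible N) :
    IsClosed {z | Good t a N z} ∧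
      ∀ {K : Type u} [Field K] (v : Spec (CommRingCat.of K) ⟶ Spec (CommRingCat.of B)),
        Nonempty ((Scheme.Modules.pullback (pullback.fst (pullback.snd t a) v)).obj N ≅
          Coh.structureModule (pullback (pullback.snd t a) v)) →
        Good t a N (v (IsLocalRing.closedPoint K)) := by
  obtain ⟨Y, _, φ, a₀, rfl, N₀, hN₀, ⟨i⟩⟩ := exists_noetherian_stage t a N hN
  let m := mapB t a₀ φ
  let N' := (Scheme.Modules.pullback m).obj N₀
  let j : N' ≅ N := i
  have down : ∀ {K : Type u} [Field K] (v : Spec (CommRingCat.of K) ⟶ Spec (CommRingCat.of B)),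
      Nonempty ((Scheme.Modules.pullback (pullback.fst (pullback.snd t (φ ≫ a₀)) v)).obj N ≅
          Coh.structureModule (pullback (pullback.snd t (φ ≫ a₀)) v)) →
      Good t a₀ N₀ (φ (v (IsLocalRing.closedPoint K))) := by
    rintro K _ v ⟨e⟩
    have hP := (IsPullback.of_hasPullback (pullback.snd t (φ ≫ a₀)) v).paste_horiz (isPullback_mapB t a₀ φ)
    let θ := hP.isoPullback
    have hθ : θ.inv ≫ pullback.fst (pullback.snd t (φ ≫ a₀)) v ≫ m = pullback.fst (pullback.snd t a₀) (v ≫ φ) :=
      hP.isoPullback_inv_fst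
    exact good_of_bc_noetherian t a₀ h1 N₀ hN₀ (v ≫ φ)
      ⟨(Scheme.Modules.pullbackCongr hθ.symm).app N₀ ≪≫ ((Scheme.Modules.pullbackComp θ.inv _).app N₀).symm ≪≫
        (Scheme.Modules.pullback θ.inv).mapIso (((Scheme.Modules.pullbackComp _ m).app N₀).symm ≪≫
          (Scheme.Modules.pullback _).mapIso j ≪≫ e) ≪≫ PicLoc.pullbackStructureIso θ.inv⟩
  have up : ∀ z, Good t a₀ N₀ (φ z) → Good t (φ ≫ a₀) N z := fun z hz =>
    good_iso t _ j (good_pull t a₀ φ N₀ hN₀ hz)
  refine ⟨?_, fun v hv => up _ (down v hv)⟩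
  have heq : {z | Good t (φ ≫ a₀) N z} = φ ⁻¹' {y | Good t a₀ N₀ y} := by
    ext z
    refine ⟨fun hz => ?_, up z⟩
    let v : Spec (CommRingCat.of ((Spec (CommRingCat.of B)).residueField z)) ⟶ Spec (CommRingCat.of B) :=
      (Spec (CommRingCat.of B)).fromSpecResidueField z
    have hv : v (IsLocalRing.closedPoint _) = z := Scheme.fromSpecResidueField_apply _ _
    have := down v (trivial_bc_of_good t _ N hN v (by rw [hv]; exact hz))
    rw [hv] at this
    exact this
  rw [heq]
  exact (isClosed_good_noetherian t a₀ h1 N₀ hN₀).preimage φ.continuous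

variable {S : Scheme.{u}} (a : S ⟶ Spec (CommRingCat.of k))

include h1 in
/-- The good locus is closed over any base and contains every rational point with trivial pullback. -/
theorem good_univ [ConnectedSpace S] (σ : Spec (CommRingCat.of k) ⟶ S) (hσ : σ ≫ a = 𝟙 _)
    (N : (pullback t a).Modules) (hN : PicF.IsInvertible N)
    (σT : T ⟶ pullback t a) (hσT₁ : σT ≫ pullback.fst t a = 𝟙 T) (hσT₂ : σT ≫ pullback.snd t a = t ≫ σ)
    (htriv : Nonempty ((Scheme.Modules.pullback σT).obj N ≅ Coh.structureModule T)) (y : S) :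
    Good t a N y := by
  let A := {y | Good t a N y}
  suffices A = Set.univ from this.ge (Set.mem_univ y)
  refine IsClopen.eq_univ ⟨?_, isOpen_good t a N⟩ ?_
  · refine isOpen_compl_iff.1 (isOpen_iff_forall_mem_open.2 fun z hz => ?_)
    obtain ⟨V, hV, hzV, -⟩ := exists_isAffineOpen_mem_and_subset (X := S) (x := z) (U := ⊤) trivial
    haveI : Nonempty V := ⟨⟨z, hzV⟩⟩
    haveI : Nontrivial Γ(S, V) := Scheme.component_nontrivial S V
    let j := hV.fromSpec
    let g := mapB t a j
    have hN' := Amp73.isInvertible_pullback g hN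
    obtain ⟨hc, -⟩ := good_affine t h1 (B := Γ(S, V)) (j ≫ a) ((Scheme.Modules.pullback g).obj N) hN'
    refine ⟨j '' {w | Good t (j ≫ a) ((Scheme.Modules.pullback g).obj N) w}ᶜ, ?_, j.isOpenEmbedding.isOpenMap _ hc.isOpen_compl, ?_⟩
    · rintro _ ⟨w, hw, rfl⟩ hgood
      exact hw (good_pull t a j N hN hgood)
    · obtain ⟨w, rfl⟩ : z ∈ Set.range j := by rw [hV.range_fromSpec]; exact hzV
      exact ⟨w, fun hgood => hz (good_of_openImmersion t a j N hgood), rfl⟩
  · let y₀ := σ (IsLocalRing.closedPoint k)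
    obtain ⟨V, hV, hyV, -⟩ := exists_isAffineOpen_mem_and_subset (X := S) (x := y₀) (U := ⊤) trivial
    haveI : Nonempty V := ⟨⟨y₀, hyV⟩⟩
    haveI : Nontrivial Γ(S, V) := Scheme.component_nontrivial S V
    let j := hV.fromSpec
    let g := mapB t a j
    have hrange : Set.range σ ⊆ Set.range j := by
      rintro _ ⟨w, rfl⟩
      rw [Subsingleton.elim (α := Spec (CommRingCat.of k)) w (IsLocalRing.closedPoint k), hV.range_fromSpec]
      exact hyV
    let v := IsOpenImmersion.lift j σ hrange
    have hv : v ≫ j = σ := IsOpenImmersion.lift_fac j σ hrange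
    let P := pullback (pullback.snd t (j ≫ a)) v
    let l : P ⟶ T := pullback.fst (pullback.snd t (j ≫ a)) v ≫ pullback.fst t (j ≫ a)
    have hl : l ≫ σT = pullback.fst (pullback.snd t (j ≫ a)) v ≫ g := by
      refine pullback.hom_ext ?_ ?_
      · rw [Category.assoc, hσT₁, Category.comp_id, Category.assoc,
          show g ≫ pullback.fst t a = pullback.fst t (j ≫ a) from pullback.lift_fst _ _ _]
      · have h1' : (pullback.fst (pullback.snd t (j ≫ a)) v ≫ g) ≫ pullback.snd t a = pullback.snd _ v ≫ σ := by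
          rw [Category.assoc, show g ≫ pullback.snd t a = pullback.snd t (j ≫ a) ≫ j from mapB_snd t a j,
            pullback.condition_assoc, hv]
        have hlt : l ≫ t = pullback.snd (pullback.snd t (j ≫ a)) v := by
          rw [Category.assoc, pullback.condition, ← Category.assoc, pullback.condition, Category.assoc,
            reassoc_of% hv, hσ, Category.comp_id]
        rw [h1', Category.assoc, hσT₂, ← Category.assoc, hlt]
    obtain ⟨e⟩ := htriv
    have := (good_affine t h1 (B := Γ(S, V)) (j ≫ a) ((Scheme.Modules.pullback g).obj N)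
      (Amp73.isInvertible_pullback g hN)).2 v
      ⟨(Scheme.Modules.pullbackComp _ g).app N ≪≫ (Scheme.Modules.pullbackCongr hl.symm).app N ≪≫
        ((Scheme.Modules.pullbackComp l σT).app N).symm ≪≫ (Scheme.Modules.pullback l).mapIso e ≪≫
        PicLoc.pullbackStructureIso l⟩
    exact ⟨j (v (IsLocalRing.closedPoint k)), good_of_openImmersion t a j N this⟩

/-- Functions on a constant family are functions on the base. -/
theorem bijective_app_snd (V : S.Opens) : Function.Bijective ((pullback.snd t a).app V) := by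
  haveI : Flat t := ASB64.flat_of_field t
  haveI := FBase64.geometricallyConnected_of_geometricallyIrreducible t
  have h0 : AbSch7.H0Fib t := AbSch7.H0Fib.of_geometrically t
  haveI : Flat a := ASB64.flat_of_field a
  have hf : ∀ W, IsIso (t.app W) := fun W =>
    (ConcreteCategory.isIso_iff_bijective _).2 (AbSch7.app_bijective t h0 W)
  haveI := Var76.FibBC.isIso_app_baseChange t (IsPullback.of_hasPullback t a) hf V
  exact ConcreteCategory.bijective_of_isIso _

include h1 in
/-- Existence in the product decomposition. -/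
theorem exists_decomp [ConnectedSpace S] (σ : Spec (CommRingCat.of k) ⟶ S) (hσ : σ ≫ a = 𝟙 _)
    (N : (pullback t a).Modules) (hN : PicF.IsInvertible N) :
    ∃ (L : S.Modules) (M : T.Modules), PicF.IsInvertible L ∧ PicF.IsInvertible M ∧
      Nonempty (N ≅ CohB1.tensorMod ((Scheme.Modules.pullback (pullback.snd t a)).obj L)
        ((Scheme.Modules.pullback (pullback.fst t a)).obj M)) := by
  let σT : T ⟶ pullback t a := pullback.lift (𝟙 T) (t ≫ σ) (by rw [Category.id_comp, Category.assoc, hσ, Category.comp_id])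
  let M := (Scheme.Modules.pullback σT).obj N
  have hM : PicF.IsInvertible M := Amp73.isInvertible_pullback σT hN
  obtain ⟨M', hM', ⟨em⟩⟩ := An92.InvMod.exists_inverse hM
  let r := pullback.fst t a
  let q := pullback.snd t a
  let N' := CohB1.tensorMod N ((Scheme.Modules.pullback r).obj M')
  have hN' : PicF.IsInvertible N' := EGA73.isInvertible_tensorMod hN (Amp73.isInvertible_pullback r hM')
  have htriv : Nonempty ((Scheme.Modules.pullback σT).obj N' ≅ Coh.structureModule T) :=
    ⟨TwTens96.pullTensIso σT N _ ≪≫ EGA73.tensIso (Iso.refl M)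
      ((Scheme.Modules.pullbackComp σT r).app M' ≪≫
        (Scheme.Modules.pullbackCongr (pullback.lift_fst _ _ _)).app M' ≪≫ (Scheme.Modules.pullbackId _).app M') ≪≫
      EGA73.tensComm _ _ ≪≫ em⟩
  have hgood : ∀ y, Good t a N' y := good_univ t h1 a σ hσ N' hN' σT (pullback.lift_fst _ _ _) (pullback.lift_snd _ _ _) htriv
  obtain ⟨hL, hcounit⟩ := Cube7.invertible_and_counit_of_frames q (bijective_app_snd t a) hgood
  let c := @asIso _ _ _ _ _ hcounit
  exact ⟨_, M, hL, hM, ⟨(EGA73.tensUnitRight N).symm ≪≫ EGA73.tensIso (Iso.refl N)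
      ((PicLoc.pullbackStructureIso r).symm ≪≫ (Scheme.Modules.pullback r).mapIso em.symm ≪≫
        TwTens96.pullTensIso r M' M) ≪≫ (EGA73.tensAssoc' _ _ _).symm ≪≫ EGA73.tensIso c.symm (Iso.refl _)⟩⟩

/-- Uniqueness in the product decomposition. -/
theorem decomp_unique (σ : Spec (CommRingCat.of k) ⟶ S) (hσ : σ ≫ a = 𝟙 _)
    {L L' : S.Modules} {M M' : T.Modules} (hL : PicF.IsInvertible L) (hL' : PicF.IsInvertible L')
    (hM' : PicF.IsInvertible M')
    (φ : CohB1.tensorMod ((Scheme.Modules.pullback (pullback.snd t a)).obj L)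
        ((Scheme.Modules.pullback (pullback.fst t a)).obj M) ≅
      CohB1.tensorMod ((Scheme.Modules.pullback (pullback.snd t a)).obj L')
        ((Scheme.Modules.pullback (pullback.fst t a)).obj M')) :
    Nonempty (L ≅ L') ∧ Nonempty (M ≅ M') := by
  let σT : T ⟶ pullback t a := pullback.lift (𝟙 T) (t ≫ σ) (by rw [Category.id_comp, Category.assoc, hσ, Category.comp_id])
  let r := pullback.fst t a
  let q := pullback.snd t a
  have trivL : ∀ {L : S.Modules}, PicF.IsInvertible L →
      Nonempty ((Scheme.Modules.pullback σT).obj ((Scheme.Modules.pullback q).obj L) ≅ Coh.structureModule T) := by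
    intro L hL
    obtain ⟨u⟩ : Nonempty ((Scheme.Modules.pullback σ).obj L ≅ Coh.structureModule (Spec (CommRingCat.of k))) := by
      obtain ⟨V, hV, -, ε, hε⟩ :=
        Mero90.exists_affine_frame (Amp73.isInvertible_pullback σ hL) (IsLocalRing.closedPoint k) ⊤ trivial
      exact ParaF26.nonempty_iso_unit (hε.res (show (⊤ : (Spec (CommRingCat.of k)).Opens) ≤ V.1 from fun y _ => by
        rw [Subsingleton.elim y (IsLocalRing.closedPoint k)]; exact hV))
    exact ⟨(Scheme.Modules.pullbackComp σT q).app L ≪≫ (Scheme.Modules.pullbackCongr (pullback.lift_snd _ _ _)).app L ≪≫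
      ((Scheme.Modules.pullbackComp t σ).app L).symm ≪≫ (Scheme.Modules.pullback t).mapIso u ≪≫
      PicLoc.pullbackStructureIso t⟩
  let idT : ∀ M : T.Modules, (Scheme.Modules.pullback σT).obj ((Scheme.Modules.pullback r).obj M) ≅ M := fun M =>
    (Scheme.Modules.pullbackComp σT r).app M ≪≫ (Scheme.Modules.pullbackCongr (pullback.lift_fst _ _ _)).app M ≪≫
      (Scheme.Modules.pullbackId _).app M
  obtain ⟨u⟩ := trivL hL
  obtain ⟨u'⟩ := trivL hL'
  let eM : M ≅ M' := (EGA73.tensUnitLeft M).symm ≪≫ EGA73.tensIso u.symm (idT M).symm ≪≫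
    (TwTens96.pullTensIso σT _ _).symm ≪≫ (Scheme.Modules.pullback σT).mapIso φ ≪≫ TwTens96.pullTensIso σT _ _ ≪≫
    EGA73.tensIso u' (idT M') ≪≫ EGA73.tensUnitLeft M'
  refine ⟨?_, ⟨eM⟩⟩
  obtain ⟨J, -, ⟨ej⟩⟩ := An92.InvMod.exists_inverse hM'
  let cancel : ∀ F : (pullback t a).Modules,
      CohB1.tensorMod (CohB1.tensorMod F ((Scheme.Modules.pullback r).obj M')) ((Scheme.Modules.pullback r).obj J) ≅ F :=
    fun F => EGA73.tensAssoc' _ _ _ ≪≫ EGA73.tensIso (Iso.refl F) ((TwTens96.pullTensIso r M' J).symm ≪≫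
      (Scheme.Modules.pullback r).mapIso (EGA73.tensComm _ _ ≪≫ ej) ≪≫ PicLoc.pullbackStructureIso r) ≪≫
      EGA73.tensUnitRight F
  let ψ : (Scheme.Modules.pullback q).obj L ≅ (Scheme.Modules.pullback q).obj L' :=
    (cancel _).symm ≪≫ EGA73.tensIso (EGA73.tensIso (Iso.refl _) ((Scheme.Modules.pullback r).mapIso eM.symm) ≪≫ φ)
      (Iso.refl _) ≪≫ cancel _
  let unit : ∀ {G : S.Modules}, PicF.IsInvertible G →
      (G ≅ (Scheme.Modules.pushforward q).obj ((Scheme.Modules.pullback q).obj G)) := fun {G} hG =>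
    @asIso _ _ _ _ _ (Desc59.Pic.VectPush.isIso_unit q (bijective_app_snd t a) (LimTop61.isFinLocFreeOfRank_iff.mp (Mero90.isFinLocFreeOfRank_of_isInvertible hG)).1)
  exact ⟨unit hL ≪≫ (Scheme.Modules.pushforward q).mapIso ψ ≪≫ (unit hL').symm⟩

end Groth.Agent.PicProd25
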